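import Groth.Agent.CurvesA.AcycEtale
import Groth.Agent.Etcore.ShriekBasic
import Groth.Agent.Etcore.ExtAdj
import Groth.Prelude.Def_EtCore
import Groth.Agent.S0101

/-!
Restriction to an étale `V → X` on `Ext(ℤ_T, F)`, `T` terminal, versus inverse images.

* `mapExact_pull_eq_zero`: if `x|_V = 0` and `f : Y ⟶ X` factors through `V`, then `f^* x = 0`;
* `res_eq_zero_of_mapExact`: if `x` pulls back to zero along `V.hom`, then `x|_V = 0`;
* `Hpull_eq_zero_iff`: `Hpull V.hom F q e = 0 ↔ res (ℤ_V ⟶ ℤ_T) (HEquiv e) = 0`.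
-/

set_option autoImplicit false

universe u

open CategoryTheory CategoryTheory.Limits AlgebraicGeometry Opposite Abelian

namespace K445.EtRes

open Groth.Agent.CurvesA Groth.Agent.CurvesA.SiteZU Groth.Agent.Etcore.ExtAdj

variable {X Y : Scheme.{u}}

/-- Free abelian sheaves on étale `X`-schemes. -/
noncomputable abbrev Z (X : Scheme.{u}) : X.Etale ⥤ EtCoh.Ab X := ZU.{u + 1} X.smallEtaleTopology

section Pull

variable (f : Y ⟶ X)

/-- The section of `f^{-1} ℤ_V` over the terminal object given by a lift of `f` to `V`. -/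
noncomputable def sec {T V : X.Etale} (δ : (EtCoh.bc f).obj T ⟶ (EtCoh.bc f).obj V) :
    ((EtCoh.push f).obj ((EtCoh.pull f).obj ((Z X).obj V))).obj.obj (op T) :=
  ((EtCoh.pull f).obj ((Z X).obj V)).obj.map δ.op
    (((EtCoh.pullPushAdj f).unit.app ((Z X).obj V)).hom.app (op V) (univ.{u + 1} V))

/-- The map `f^{-1} ℤ_T ⟶ f^{-1} ℤ_V` given by a lift of `f` to `V`. -/
noncomputable def split {T V : X.Etale} (δ : (EtCoh.bc f).obj T ⟶ (EtCoh.bc f).obj V) :
    (EtCoh.pull f).obj ((Z X).obj T) ⟶ (EtCoh.pull f).obj ((Z X).obj V) :=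
  ((EtCoh.pullPushAdj f).homEquiv _ _).symm (lift.{u + 1} (sec f δ))

theorem split_comp {T V : X.Etale} (a : V ⟶ T) (δ : (EtCoh.bc f).obj T ⟶ (EtCoh.bc f).obj V)
    (hδ : δ ≫ (EtCoh.bc f).map a = 𝟙 _) :
    split f δ ≫ (EtCoh.pull f).map ((Z X).map a) = 𝟙 _ := by
  apply ((EtCoh.pullPushAdj f).homEquiv _ _).injective
  rw [split, Adjunction.homEquiv_naturality_right, Equiv.apply_symm_apply, Adjunction.homEquiv_id]
  apply ev_injective.{u + 1}
  refine (ev_comp.{u + 1} (lift.{u + 1} (sec f δ)) _).trans ?_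
  rw [ev_lift]
  let G := (EtCoh.pull f).obj ((Z X).obj T)
  let m : (EtCoh.pull f).obj ((Z X).obj V) ⟶ G := (EtCoh.pull f).map ((Z X).map a)
  let ηV := (EtCoh.pullPushAdj f).unit.app ((Z X).obj V)
  let ηT := (EtCoh.pullPushAdj f).unit.app ((Z X).obj T)
  have h1 : m.hom.app (op ((EtCoh.bc f).obj T)) (sec f δ) =
      G.obj.map δ.op (m.hom.app (op ((EtCoh.bc f).obj V)) (ηV.hom.app (op V) (univ.{u + 1} V))) :=
    NatTrans.naturality_apply m.hom δ.op _
  have h2 : m.hom.app (op ((EtCoh.bc f).obj V)) (ηV.hom.app (op V) (univ.{u + 1} V)) =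
      ηT.hom.app (op V) (((Z X).map a).hom.app (op V) (univ.{u + 1} V)) := by
    have h3 := (EtCoh.pullPushAdj f).unit.naturality ((Z X).map a)
    have h4 := congrArg (fun t => t.hom.app (op V) (univ.{u + 1} V)) h3
    exact h4.symm
  have h5 : ((Z X).map a).hom.app (op V) (univ.{u + 1} V) =
      ((Z X).obj T).obj.map a.op (univ.{u + 1} T) := ev_map.{u + 1} a
  have h6 : ηT.hom.app (op V) (((Z X).obj T).obj.map a.op (univ.{u + 1} T)) =
      G.obj.map ((EtCoh.bc f).map a).op (ηT.hom.app (op T) (univ.{u + 1} T)) :=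
    NatTrans.naturality_apply ηT.hom a.op _
  change m.hom.app (op ((EtCoh.bc f).obj T)) (sec f δ) = ηT.hom.app (op T) (univ.{u + 1} T)
  rw [h1, h2, h5, h6]
  have h7 : G.obj.map δ.op (G.obj.map ((EtCoh.bc f).map a).op (ηT.hom.app (op T) (univ.{u + 1} T))) =
      G.obj.map (δ ≫ (EtCoh.bc f).map a).op (ηT.hom.app (op T) (univ.{u + 1} T)) := by
    rw [op_comp, G.obj.map_comp]
    rfl
  refine h7.trans ?_
  rw [hδ, op_id, G.obj.map_id]
  rfl

/-- If `x|_V = 0` and `f` factors through `V`, then `f^* x = 0`. -/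
theorem mapExact_pull_eq_zero [PreservesFiniteLimits (EtCoh.pull f)] {T V : X.Etale} (a : V ⟶ T)
    (δ : (EtCoh.bc f).obj T ⟶ (EtCoh.bc f).obj V) (hδ : δ ≫ (EtCoh.bc f).map a = 𝟙 _)
    {F : EtCoh.Ab X} {q : ℕ} (x : Ext ((Z X).obj T) F q)
    (hx : ExtStep.res ((Z X).map a) F q x = 0) : x.mapExactFunctor (EtCoh.pull f) = 0 := by
  have h1 : (Ext.mk₀ ((EtCoh.pull f).map ((Z X).map a))).comp
      (x.mapExactFunctor (EtCoh.pull f)) (zero_add q) = 0 := by
    rw [← Ext.mapExactFunctor_mk₀, ← Ext.mapExactFunctor_comp]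
    rw [ExtStep.res_apply] at hx
    rw [hx, Ext.mapExactFunctor_zero]
  rw [← Ext.mk₀_id_comp (x.mapExactFunctor (EtCoh.pull f)), ← split_comp f a δ hδ,
    ← Ext.mk₀_comp_mk₀_assoc, h1, Ext.comp_zero]

end Pull

section Etale

variable (V : X.Etale) [EtShriek.JCont V.hom]

/-- If `x` pulls back to zero along the étale `V → X` then `x|_V = 0`. -/
theorem res_eq_zero_of_mapExact [PreservesFiniteLimits (EtCoh.pull V.hom)] {T : X.Etale} (a : V ⟶ T)
    {F : EtCoh.Ab X} {q : ℕ} (x : Ext ((Z X).obj T) F q)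
    (hx : x.mapExactFunctor (EtCoh.pull V.hom) = 0) : ExtStep.res ((Z X).map a) F q x = 0 := by
  have i1 := Groth.Agent.S0648.result V.hom
  have i2 : (EtShriek.extZero V.hom).Additive := (EtShriek.extZeroAdj V.hom).left_adjoint_additive
  have i3 : PreservesColimitsOfSize.{0, 0} (EtShriek.extZero V.hom) :=
    (EtShriek.extZeroAdj V.hom).leftAdjoint_preservesColimits
  have i4 : PreservesFiniteColimits (EtShriek.extZero V.hom) :=
    PreservesColimitsOfSize.preservesFiniteColimits.{0, 0} _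
  have i5 := Groth.Agent.Sga4h.EtaleRes2.preservesFiniteLimits_restrAlong V.hom
  have i6 := Groth.Agent.Sga4h.EtaleRes2.preservesFiniteColimits_restrAlong V.hom
  have i7 : (EtShriek.restrAlong V.hom ⋙ EtShriek.extZero V.hom).Additive := inferInstance
  have i8 : PreservesFiniteLimits (EtShriek.restrAlong V.hom ⋙ EtShriek.extZero V.hom) :=
    comp_preservesFiniteLimits _ _
  have i9 : PreservesFiniteColimits (EtShriek.restrAlong V.hom ⋙ EtShriek.extZero V.hom) :=
    comp_preservesFiniteColimits _ _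
  -- restriction is zero
  have h1 : x.mapExactFunctor (EtShriek.restrAlong V.hom) = 0 := by
    let τ := Groth.Agent.Etcore.ShriekBasic.pullIsoRestr V.hom
    have h2 := mapExactFunctor_nat τ.inv x
    rw [hx, Ext.comp_zero] at h2
    have h3 := congrArg (fun y => Ext.comp y (Ext.mk₀ (τ.hom.app F)) (add_zero q)) h2
    simp only [Ext.zero_comp] at h3
    rw [Ext.comp_assoc_of_third_deg_zero, Ext.mk₀_comp_mk₀, ← NatTrans.comp_app, τ.inv_hom_id,
      NatTrans.id_app, Ext.comp_mk₀_id] at h3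
    exact h3
  have h2 : (Ext.mk₀ ((EtShriek.extZeroAdj V.hom).counit.app ((Z X).obj T))).comp x (zero_add q) = 0 := by
    have h3 := mapExactFunctor_nat (EtShriek.extZeroAdj V.hom).counit x
    rw [mapExactFunctor_id, mapExactFunctor_compFunctor, h1, Ext.mapExactFunctor_zero,
      Ext.zero_comp] at h3
    exact h3.symm
  let e : (EtShriek.extZero V.hom).obj ((Z V.left).obj (EtCoh.top V.left)) ≅ (Z X).obj V :=
    (AcycEtale.extZeroZ V.hom (EtCoh.top V.left)).trans ((Z X).mapIso (AcycEtale.compTopIso V))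
  let b := (EtShriek.extZeroAdj V.hom).homEquiv _ _ (e.hom ≫ (Z X).map a)
  have h3 : e.hom ≫ (Z X).map a = (EtShriek.extZero V.hom).map b ≫
      (EtShriek.extZeroAdj V.hom).counit.app ((Z X).obj T) :=
    (Equiv.symm_apply_apply ((EtShriek.extZeroAdj V.hom).homEquiv _ _) (e.hom ≫ (Z X).map a)).symm.trans
      (Adjunction.homEquiv_counit _ _ _ b)
  have h4 : (Z X).map a = (e.inv ≫ (EtShriek.extZero V.hom).map b) ≫
      (EtShriek.extZeroAdj V.hom).counit.app ((Z X).obj T) := by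
    rw [Category.assoc, ← h3, e.inv_hom_id_assoc]
  rw [ExtStep.res_apply, h4, ← Ext.mk₀_comp_mk₀_assoc, h2, Ext.comp_zero]

end Etale

section Hpull

/-- The tautological lift of `V.hom` to `V`. -/
noncomputable def diag (V T : X.Etale) : (EtCoh.bc V.hom).obj T ⟶ (EtCoh.bc V.hom).obj V :=
  MorphismProperty.Over.homMk (A := (EtCoh.bc V.hom).obj T) (B := (EtCoh.bc V.hom).obj V)
    (pullback.lift (pullback.snd T.hom V.hom) (pullback.snd T.hom V.hom) rfl)
    (pullback.lift_snd _ _ _) trivial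

theorem diag_comp {V T : X.Etale} (hT : IsTerminal T) (a : V ⟶ T) :
    diag V T ≫ (EtCoh.bc V.hom).map a = 𝟙 _ :=
  (hT.isTerminalObj (EtCoh.bc V.hom)).hom_ext _ _

/-- `Hpull` of a class of the form `HEquiv.symm x`. -/
theorem Hpull_eq_zero_iff_mapExact (f : Y ⟶ X) [PreservesFiniteLimits (EtCoh.pull f)] {T : X.Etale}
    (hT : IsTerminal T) (F : EtCoh.Ab X) (q : ℕ) (e : EtCoh.H X F q) :
    EtCore.Hpull f F q e = 0 ↔
      (HEquiv.{u + 1, u + 1} hT F q e).mapExactFunctor (EtCoh.pull f) = 0 := by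
  have h1 : HEquiv.{u + 1, u + 1} hT F q e =
      (Ext.mk₀ (constIso.{u + 1} X.smallEtaleTopology hT).hom).comp e (zero_add q) := rfl
  have h2 : EtCore.Hpull f F q e =
      (Ext.mk₀ (EtCore.pullConst f ℤ).inv).comp (Ext.mapExactFunctor (EtCoh.pull f) e) (zero_add q) := rfl
  rw [h1, h2, Ext.mapExactFunctor_comp, Ext.mapExactFunctor_mk₀]
  constructor
  · intro h
    have h3 := congrArg (fun y => Ext.comp (Ext.mk₀ (EtCore.pullConst f ℤ).hom) y (zero_add q)) h
    simp only [Ext.comp_zero] at h3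
    rw [Ext.mk₀_comp_mk₀_assoc, Iso.hom_inv_id, Ext.mk₀_id_comp] at h3
    rw [h3, Ext.comp_zero]
  · intro h
    have h3 := congrArg (fun y => Ext.comp (Ext.mk₀ ((EtCoh.pull f).map
      (constIso.{u + 1} X.smallEtaleTopology hT).inv)) y (zero_add q)) h
    simp only [Ext.comp_zero] at h3
    rw [Ext.mk₀_comp_mk₀_assoc, ← Functor.map_comp, Iso.inv_hom_id, CategoryTheory.Functor.map_id,
      Ext.mk₀_id_comp] at h3
    rw [h3, Ext.comp_zero]

/-- **`Hpull` along an étale `V → X` vanishes iff the restriction to `V` does.** -/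
theorem Hpull_eq_zero_iff (V : X.Etale) [EtShriek.JCont V.hom]
    [PreservesFiniteLimits (EtCoh.pull V.hom)] {T : X.Etale} (hT : IsTerminal T) (F : EtCoh.Ab X)
    (q : ℕ) (e : EtCoh.H X F q) :
    EtCore.Hpull V.hom F q e = 0 ↔
      ExtStep.res ((Z X).map (hT.from V)) F q (HEquiv.{u + 1, u + 1} hT F q e) = 0 := by
  rw [Hpull_eq_zero_iff_mapExact V.hom hT]
  exact ⟨res_eq_zero_of_mapExact V (hT.from V) _,
    mapExact_pull_eq_zero V.hom (hT.from V) (diag V T) (diag_comp hT _) _⟩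

end Hpull

end K445.EtRes
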