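import Groth.Agent.CurvesA.EtFieldTr
import Groth.Agent.CurvesA.EtFieldH
import Groth.Agent.CurvesA.ExtMid

/-!
Étale cohomology of fields: classes of positive degree die on a finite Galois extension and are torsion.

* `exists_galois_res_eq_zero`: for `x ∈ Ext^q(Z_L, F)`, `q > 0`, there is a finite Galois `N/K` containing `L`
  with `x|_N = 0`;
* `exists_nsmul_eq_zero`: hence `x` is torsion;
* `nsmul_finrank_eq_zero`: `[N : L] • x = 0` when `x|_N = 0`, `N/L` Galois;
* `nsmul_finrank_eq_zero'`: the same for any finite separable `L'/L`.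
-/

set_option autoImplicit false

universe u

open CategoryTheory Category Limits Opposite AlgebraicGeometry Abelian
open Groth.Agent.CurvesA.EtFieldObj Groth.Agent.CurvesA.EtFieldDesc
open Groth.Agent.CurvesA.EtFieldTr Groth.Agent.CurvesA

namespace K445.FieldTor

variable {K : Type u} [Field K]

/-- `nsmul` on `Ext` is composition with `n • 𝟙` of the coefficients. -/
theorem comp_nsmul_id {𝒜 : Type*} [Category 𝒜] [Abelian 𝒜] [HasExt 𝒜] {A F : 𝒜} {q : ℕ} (x : Ext A F q)
    (n : ℕ) : x.comp (Ext.mk₀ (n • 𝟙 F)) (add_zero q) = n • x := by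
  induction n with
  | zero => rw [zero_smul, zero_smul, Ext.mk₀_zero, Ext.comp_zero]
  | succ n ih => rw [succ_nsmul, succ_nsmul, Ext.mk₀_add, Ext.comp_add, ih, Ext.comp_mk₀_id]

theorem exists_galois_res_eq_zero (L : Type u) [Field L] [Algebra K L] [FiniteDimensional K L]
    [Algebra.IsSeparable K L] (F : EtCoh.Ab (Spec (CommRingCat.of K))) {q : ℕ} (hq : 0 < q)
    (x : Ext (ZL K L) F q) :
    ∃ (N : Type u) (_ : Field N) (_ : Algebra K N) (_ : FiniteDimensional K N) (_ : IsGalois K N)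
      (_ : Algebra L N) (_ : IsScalarTower K L N), ExtStep.res (Zm (can K L N)) F q x = 0 := by
  obtain ⟨r, rfl⟩ : ∃ r, q = r + 1 := ⟨q - 1, by omega⟩
  obtain ⟨S, hS, hx⟩ := SiteZU.exists_sieve_comp_eq_zero x
  obtain ⟨N, i1, i2, i3, i4, f, hf⟩ := exists_galois_mem S hS
  obtain ⟨φ, rfl⟩ := exists_etMap_eq f
  let _ : Algebra L N := φ.toRingHom.toAlgebra
  have : IsScalarTower K L N := IsScalarTower.of_algebraMap_eq fun r => (φ.commutes r).symm
  exact ⟨N, i1, i2, i3, i4, inferInstance, this, hx _ _ hf⟩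

/-- Transfer for an arbitrary finite separable extension `L'/L`. -/
theorem nsmul_finrank_eq_zero (L L' : Type u) [Field L] [Algebra K L] [FiniteDimensional K L]
    [Algebra.IsSeparable K L] [Field L'] [Algebra K L'] [FiniteDimensional K L']
    [Algebra.IsSeparable K L'] [Algebra L L'] [IsScalarTower K L L']
    (F : EtCoh.Ab (Spec (CommRingCat.of K))) {q : ℕ} (x : Ext (ZL K L) F q)
    (hx : ExtStep.res (Zm (can K L L')) F q x = 0) : Module.finrank L L' • x = 0 := by
  obtain ⟨M, _, _, _, _, ⟨φ⟩, -⟩ := exists_galois (K := K) L' L'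
  let _ : Algebra L' M := φ.toRingHom.toAlgebra
  have h1 : IsScalarTower K L' M := IsScalarTower.of_algebraMap_eq fun r => (φ.commutes r).symm
  let _ : Algebra L M := ((algebraMap L' M).comp (algebraMap L L')).toAlgebra
  have h2 : IsScalarTower L L' M := IsScalarTower.of_algebraMap_eq fun r => rfl
  have h3 : IsScalarTower K L M := IsScalarTower.of_algebraMap_eq fun r => by
    rw [IsScalarTower.algebraMap_apply K L' M, IsScalarTower.algebraMap_apply K L L']
    rfl
  have h4 : IsGalois L M := IsGalois.tower_top_of_isGalois K L M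
  obtain ⟨t, ht⟩ := exists_transfer (K := K) (L := L) (L' := L') (M := M)
  exact ExtStep.nsmul_eq_zero_of_transfer _ t _ ht F q x hx

theorem exists_nsmul_eq_zero (L : Type u) [Field L] [Algebra K L] [FiniteDimensional K L]
    [Algebra.IsSeparable K L] (F : EtCoh.Ab (Spec (CommRingCat.of K))) {q : ℕ} (hq : 0 < q)
    (x : Ext (ZL K L) F q) : ∃ n : ℕ, 0 < n ∧ n • x = 0 := by
  obtain ⟨N, _, _, _, _, _, _, hx⟩ := exists_galois_res_eq_zero L F hq x
  have : FiniteDimensional L N := Module.Finite.right K L N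
  exact ⟨Module.finrank L N, Module.finrank_pos, nsmul_finrank_eq_zero L N F x hx⟩

theorem isOfFinAddOrder_H (F : EtCoh.Ab (Spec (CommRingCat.of K))) {q : ℕ} (hq : 0 < q)
    (x : EtCoh.H (Spec (CommRingCat.of K)) F q) : IsOfFinAddOrder x := by
  obtain ⟨n, hn, h⟩ := exists_nsmul_eq_zero K F hq (EtFieldH.HEquiv F q x)
  rw [isOfFinAddOrder_iff_nsmul_eq_zero]
  refine ⟨n, hn, ?_⟩
  rw [← map_nsmul] at h
  exact (EtFieldH.HEquiv F q).injective (h.trans (map_zero _).symm)

theorem nsmul_injective_of_isIso {𝒜 : Type*} [Category 𝒜] [Abelian 𝒜] [HasExt 𝒜] {A F : 𝒜} {q : ℕ}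
    (n : ℕ) (h : IsIso (n • 𝟙 F)) (x : Ext A F q) (hx : n • x = 0) : x = 0 := by
  rw [← comp_nsmul_id] at hx
  have h2 : (x.comp (Ext.mk₀ (n • 𝟙 F)) (add_zero q)).comp (Ext.mk₀ (inv (n • 𝟙 F))) (add_zero q) = x := by
    rw [Ext.comp_assoc_of_third_deg_zero, Ext.mk₀_comp_mk₀, IsIso.hom_inv_id, Ext.comp_mk₀_id]
  rw [← h2, hx, Ext.zero_comp]

theorem subsingleton_H_of_isIso (F : EtCoh.Ab (Spec (CommRingCat.of K)))
    (hdiv : ∀ n : ℕ, 0 < n → IsIso (n • 𝟙 F)) {q : ℕ} (hq : 0 < q) :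
    Subsingleton (EtCoh.H (Spec (CommRingCat.of K)) F q) := by
  refine EtFieldH.subsingleton_H F q fun x => ?_
  obtain ⟨n, hn, h⟩ := exists_nsmul_eq_zero K F hq x
  exact nsmul_injective_of_isIso n (hdiv n hn) x h

end K445.FieldTor
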