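import Groth.Agent.GalCoh.K445.EtRes
import Groth.Agent.GalCoh.K445.FieldTor
import Groth.Agent.CurvesA.GalStep

/-!
`EtCore.Hpull` along `Spec L → Spec K`, `L/K` finite separable.

* `Hpull_eq_zero_iff`: `Hpull e = 0` iff the restriction of the `Ext(ℤ_K, F)` class to `ℤ_L` vanishes;
* `finrank_nsmul_eq_zero`: then `[L : K] • e = 0`;
* `exists_prime_to`: if `p` does not divide the order of `e`, killed by some finite separable extension, then `e`
  is killed by a finite separable extension of degree prime to `p`.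
-/

set_option autoImplicit false

universe u

open CategoryTheory Category Limits Opposite AlgebraicGeometry Abelian
open Groth.Agent.CurvesA.EtFieldObj Groth.Agent.CurvesA.EtFieldDesc
open Groth.Agent.CurvesA.EtFieldTr Groth.Agent.CurvesA

namespace K445.FieldHpull

variable {K : Type u} [Field K]

instance (L : Type u) [Field L] [Algebra K L] [FiniteDimensional K L] [Algebra.IsSeparable K L] :
    Etale (etObj K L).hom := etale_SpecMap K L

theorem Hpull_eq_zero_iff (L : Type u) [Field L] [Algebra K L] [FiniteDimensional K L]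
    [Algebra.IsSeparable K L]
    [h : PreservesFiniteLimits (EtCoh.pull (Spec.map (CommRingCat.ofHom (algebraMap K L))))]
    (F : EtCoh.Ab (Spec (CommRingCat.of K))) (q : ℕ) (e : EtCoh.H (Spec (CommRingCat.of K)) F q) :
    EtCore.Hpull (Spec.map (CommRingCat.ofHom (algebraMap K L))) F q e = 0 ↔
      ExtStep.res (Zm (can K K L)) F q (EtFieldH.HEquiv F q e) = 0 := by
  have h' : PreservesFiniteLimits (EtCoh.pull (etObj K L).hom) := h
  have h1 : can K K L = (EtFieldH.isTerminal_etObj K).from (etObj K L) :=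
    (EtFieldH.isTerminal_etObj K).hom_ext _ _
  rw [h1]
  exact EtRes.Hpull_eq_zero_iff (etObj K L) (EtFieldH.isTerminal_etObj K) F q e

theorem finrank_nsmul_eq_zero (L : Type u) [Field L] [Algebra K L] [FiniteDimensional K L]
    [Algebra.IsSeparable K L]
    [PreservesFiniteLimits (EtCoh.pull (Spec.map (CommRingCat.ofHom (algebraMap K L))))]
    (F : EtCoh.Ab (Spec (CommRingCat.of K))) (q : ℕ) (e : EtCoh.H (Spec (CommRingCat.of K)) F q)
    (he : EtCore.Hpull (Spec.map (CommRingCat.ofHom (algebraMap K L))) F q e = 0) :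
    Module.finrank K L • e = 0 := by
  apply (EtFieldH.HEquiv F q).injective
  rw [map_nsmul, map_zero]
  exact FieldTor.nsmul_finrank_eq_zero K L F _ ((Hpull_eq_zero_iff L F q e).1 he)

theorem exists_prime_to (L : Type u) [Field L] [Algebra K L] [FiniteDimensional K L]
    [Algebra.IsSeparable K L]
    [PreservesFiniteLimits (EtCoh.pull (Spec.map (CommRingCat.ofHom (algebraMap K L))))]
    (F : EtCoh.Ab (Spec (CommRingCat.of K))) (q : ℕ) (e : EtCoh.H (Spec (CommRingCat.of K)) F q)
    (he : EtCore.Hpull (Spec.map (CommRingCat.ofHom (algebraMap K L))) F q e = 0)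
    (p : ℕ) (hp : p.Prime) (hpe : ¬ p ∣ addOrderOf e) :
    ∃ (L' : Type u) (_ : Field L') (_ : Algebra K L') (_ : FiniteDimensional K L')
      (_ : Algebra.IsSeparable K L'), ¬ p ∣ Module.finrank K L' ∧
        ∀ [PreservesFiniteLimits (EtCoh.pull (Spec.map (CommRingCat.ofHom (algebraMap K L'))))],
          EtCore.Hpull (Spec.map (CommRingCat.ofHom (algebraMap K L'))) F q e = 0 := by
  have h0 := (Hpull_eq_zero_iff L F q e).1 he
  obtain ⟨N, _, _, _, _, ⟨φ⟩, -⟩ := exists_galois (K := K) L L
  have hN : ExtStep.res (Zm (can K K N)) F q (EtFieldH.HEquiv F q e) = 0 := by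
    have h1 : can K K N = etMap φ ≫ can K K L := (EtFieldH.isTerminal_etObj K).hom_ext _ _
    have h2 : Zm (K := K) (etMap φ ≫ can K K L) = Zm (etMap φ) ≫ Zm (can K K L) :=
      Functor.map_comp _ _ _
    rw [h1, h2, ← ExtStep.res_res, h0, map_zero]
  obtain ⟨L', ⟨n, hn⟩, hdvd⟩ := GalStep.exists_sylow_field K N p hp
  have : FiniteDimensional K L' := FiniteDimensional.left K L' N
  have : Algebra.IsSeparable K L' := Algebra.isSeparable_tower_bot_of_isSeparable K L' N
  refine ⟨L', inferInstance, inferInstance, inferInstance, inferInstance, hdvd, ?_⟩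
  intro _
  rw [Hpull_eq_zero_iff L' F q e]
  let y := ExtStep.res (Zm (can K K L')) F q (EtFieldH.HEquiv F q e)
  have h2 : ExtStep.res (Zm (can K L' N)) F q y = 0 := by
    have h3 : can K L' N ≫ can K K L' = can K K N := (EtFieldH.isTerminal_etObj K).hom_ext _ _
    have h2 : Zm (K := K) (can K L' N ≫ can K K L') = Zm (can K L' N) ≫ Zm (can K K L') :=
      Functor.map_comp _ _ _
    rw [ExtStep.res_res, ← h2, h3]
    exact hN
  have : IsGalois L' N := inferInstance
  have h4 := FieldTor.nsmul_finrank_eq_zero L' N F y h2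
  have h5 : Module.finrank L' N = p ^ n := by
    rw [← IsGalois.card_aut_eq_finrank, hn]
  have h6 : addOrderOf e • y = 0 := by
    rw [← map_nsmul, ← map_nsmul, addOrderOf_nsmul_eq_zero, map_zero, map_zero]
  rw [h5] at h4
  have h7 : Nat.Coprime (p ^ n) (addOrderOf e) :=
    Nat.Coprime.pow_left n ((Nat.Prime.coprime_iff_not_dvd hp).2 hpe)
  have h8 : addOrderOf y ∣ 1 := by
    rw [← h7.gcd_eq_one]
    exact Nat.dvd_gcd (addOrderOf_dvd_of_nsmul_eq_zero h4) (addOrderOf_dvd_of_nsmul_eq_zero h6)
  exact AddMonoid.addOrderOf_eq_one_iff.1 (Nat.dvd_one.1 h8)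

end K445.FieldHpull
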